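import Cfsg.Agent.Lib.Helper68.MG.Defs

set_option autoImplicit false

/-! S3620 (Marggraf), farm MG of helper68, paper proof by lead: the extension lemma E (helper7). -/

namespace Cfsg.Agent.Lib.Helper7.MG

open Cfsg.Agent.Lib.Helper68.MG

universe u
variable {Ω : Type u}

theorem E_ext [Finite Ω] (G : Subgroup (Equiv.Perm Ω)) (hprim : Prim G) (F : Set Ω)
    (hF : F.Nonempty) (h2 : 2 ≤ Fᶜ.ncard) (hJ : Jor G F) : ∃ B : Set Ω, Ext G F B := by
  classical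
  set Λ : Set Ω := Fᶜ with hΛ
  have hcard : ∀ (k : Equiv.Perm Ω) (S : Set Ω), (k '' S).ncard = S.ncard :=
    fun k S => Set.ncard_image_of_injective S k.injective
  have hex : ∃ g ∈ G, g '' Λ ≠ Λ ∧ ¬ Disjoint (g '' Λ) Λ := by
    by_contra hcon
    have hblk : ∀ g ∈ G, g '' Λ = Λ ∨ Disjoint (g '' Λ) Λ := by
      intro g hg
      by_cases h : g '' Λ = Λ
      · exact Or.inl h
      · right
        by_contra hd
        exact hcon ⟨g, hg, h, hd⟩
    rcases hprim.2 Λ hblk with h | h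
    · obtain ⟨a, b, ha, hb, hab⟩ := (Set.one_lt_ncard_iff (Set.toFinite _)).mp (by omega : 1 < Λ.ncard)
      exact hab (h ha hb)
    · obtain ⟨f, hf⟩ := hF
      have : f ∈ Λ := by rw [h]; trivial
      exact this hf
  let P : ℕ → Prop := fun e => ∃ g ∈ G, g '' Λ ≠ Λ ∧ ¬ Disjoint (g '' Λ) Λ ∧ (g '' Λ \ Λ).ncard = e
  have hP : ∃ e, P e := by
    obtain ⟨g, hg, h1, h3⟩ := hex
    exact ⟨_, g, hg, h1, h3, rfl⟩
  obtain ⟨g, hg, hne, hmeet, he⟩ := Nat.find_spec hP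
  have hmin : ∀ g' ∈ G, g' '' Λ ≠ Λ → ¬ Disjoint (g' '' Λ) Λ →
      Nat.find hP ≤ (g' '' Λ \ Λ).ncard :=
    fun g' hg' h1 h3 => Nat.find_min' hP ⟨g', hg', h1, h3, rfl⟩
  set B : Set Ω := g '' Λ \ Λ with hB
  obtain ⟨z, hzg, hzΛ⟩ := Set.not_disjoint_iff.mp hmeet
  have hBF : B ⊆ F := by
    intro x hx
    by_contra h
    exact hx.2 h
  have hBne : B.Nonempty := by
    by_contra hemp
    rw [Set.not_nonempty_iff_eq_empty, hB, Set.diff_eq_empty] at hemp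
    exact hne (Set.eq_of_subset_of_ncard_le hemp (by rw [hcard]) (Set.toFinite _))
  have hlt : B.ncard < Λ.ncard := by
    have hss : B ⊂ g '' Λ := by
      refine ⟨Set.diff_subset, fun hsub => ?_⟩
      exact (hsub hzg).2 hzΛ
    have := Set.ncard_lt_ncard hss (Set.toFinite _)
    rwa [hcard] at this
  have hF'c : ∀ x, x ∉ F \ B ↔ x ∈ Λ ∨ x ∈ g '' Λ := by
    intro x
    constructor
    · intro h
      by_cases hx : x ∈ F
      · right
        by_contra hb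
        exact h ⟨hx, fun hB' => hb hB'.1⟩
      · exact Or.inl hx
    · rintro (h | h) ⟨hxF, hxB⟩
      · exact h hxF
      · exact hxB ⟨h, fun hΛ' => hΛ' hxF⟩
  have T1 : ∀ x ∈ Λ, ∀ y ∈ Λ, ∃ k ∈ Fx G (F \ B), k x = y := by
    intro x hx y hy
    obtain ⟨k, hk, hkx⟩ := hJ x hx y hy
    exact ⟨k, ⟨hk.1, fun f hf => hk.2 f hf.1⟩, hkx⟩
  have T2 : ∀ x ∈ g '' Λ, ∀ y ∈ g '' Λ, ∃ k ∈ Fx G (F \ B), k x = y := by
    rintro _ ⟨x₀, hx₀, rfl⟩ _ ⟨y₀, hy₀, rfl⟩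
    obtain ⟨k, hk, hkx⟩ := hJ x₀ hx₀ y₀ hy₀
    refine ⟨g * k * g⁻¹, ⟨G.mul_mem (G.mul_mem hg hk.1) (G.inv_mem hg), fun f hf => ?_⟩, ?_⟩
    · have h1 : g⁻¹ f ∈ F := by
        by_contra hcon
        apply hf.2
        refine ⟨⟨g⁻¹ f, hcon, by simp⟩, fun hΛ' => hΛ' hf.1⟩
      simp only [Equiv.Perm.mul_apply]
      rw [hk.2 _ h1]
      simp
    · simp only [Equiv.Perm.mul_apply]
      simp [hkx]
  have Tz : ∀ x, x ∉ F \ B → ∃ k ∈ Fx G (F \ B), k x = z := by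
    intro x hx
    rcases (hF'c x).mp hx with h | h
    · exact T1 x h z hzΛ
    · exact T2 x h z hzg
  have hjor : Jor G (F \ B) := by
    intro x hx y hy
    obtain ⟨k1, hk1, h1⟩ := Tz x hx
    obtain ⟨k2, hk2, h3⟩ := Tz y hy
    refine ⟨k2⁻¹ * k1, (Fx G (F \ B)).mul_mem ((Fx G (F \ B)).inv_mem hk2) hk1, ?_⟩
    rw [Equiv.Perm.mul_apply, h1, ← h3]
    simp
  refine ⟨B, hBF, hBne, hjor, ?_, hlt⟩
  intro μ hμ
  have hpres : ∀ x, x ∉ F \ B → μ x ∉ F \ B := by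
    intro x hx hcon
    have h1 := hμ.2 _ hcon
    have h3 : μ x = x := μ.injective h1
    rw [h3] at hcon
    exact hx hcon
  have hΛB : ∀ x, x ∉ F \ B → x ∈ Λ ∨ x ∈ B := by
    intro x hx
    by_cases h : x ∈ Λ
    · exact Or.inl h
    · rcases (hF'c x).mp hx with h' | h'
      · exact Or.inl h'
      · exact Or.inr ⟨h', h⟩
  have hΛnot : ∀ x ∈ Λ, x ∉ F \ B := fun x hx => (hF'c x).mpr (Or.inl hx)
  have hBnot : ∀ x ∈ B, x ∉ F \ B := fun x hx => (hF'c x).mpr (Or.inr hx.1)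
  by_cases hμΛ : μ '' Λ = Λ
  · left
    apply Set.eq_of_subset_of_ncard_le _ (by rw [hcard]) (Set.toFinite _)
    rintro _ ⟨b, hb, rfl⟩
    rcases hΛB _ (hpres b (hBnot b hb)) with h | h
    · exfalso
      rw [← hμΛ] at h
      obtain ⟨l, hl, hlb⟩ := h
      have : l = b := μ.injective hlb
      rw [this] at hl
      exact hb.2 hl
    · exact h
  · right
    have hsub : μ '' Λ ∪ Λ ⊆ Λ ∪ B := by
      rintro x (⟨l, hl, rfl⟩ | hx)
      · exact hΛB _ (hpres l (hΛnot l hl))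
      · exact Or.inl hx
    have hnd : ¬ Disjoint (μ '' Λ) Λ := by
      intro hd
      have h1 := Set.ncard_union_eq hd (Set.toFinite _) (Set.toFinite _)
      have h3 := Set.ncard_le_ncard hsub (Set.toFinite _)
      have h4 := Set.ncard_union_le Λ B
      rw [hcard] at h1
      omega
    have h5 := hmin μ hμ.1 hμΛ hnd
    have hsub2 : μ '' Λ \ Λ ⊆ B := by
      rintro x ⟨hx1, hx2⟩
      rcases hsub (Or.inl hx1) with h | h
      · exact absurd h hx2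
      · exact h
    have heq : μ '' Λ \ Λ = B :=
      Set.eq_of_subset_of_ncard_le hsub2 (by rw [he]; exact h5) (Set.toFinite _)
    rw [Set.disjoint_left]
    rintro _ ⟨b, hb, rfl⟩ hcon
    rw [← heq] at hcon
    obtain ⟨l, hl, hlb⟩ := hcon.1
    have : l = b := μ.injective hlb
    rw [this] at hl
    exact hb.2 hl

end Cfsg.Agent.Lib.Helper7.MG
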